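import Groth.Agent.GrLib8.VeroGorRows
import Groth.Agent.GrLib8.StdField
import Groth.Agent.GrLib8.StarField
import Groth.Agent.GrLib8.RegTop
import Groth.Agent.GrLib8.HilbertFn
import Groth.Agent.LC.GorRing
import Mathlib.RingTheory.KrullDimension.Polynomial
import Mathlib.RingTheory.RegularLocalRing.Polynomial

/-!
# The type of the Veronese subrings of a polynomial ring
-/

set_option autoImplicit false
set_option linter.unusedSectionVars false
set_option linter.style.haveILetI false
set_option maxHeartbeats 1600000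

universe u

open DirectSum MvPolynomial RingTheory.Sequence
open Groth.Agent.GrLib8

namespace Groth.Agent.VeroType6

variable (k : Type u) [Field k] (s : ℕ)

/-- The standard grading by additive subgroups. -/
noncomputable def P (n : ℤ) : AddSubgroup (MvPolynomial (Fin s) k) := (GrSyz.stdGr k (Fin s) n).toAddSubgroup

noncomputable instance gradedRingP : GradedRing (P k s) :=
  { decompositionOf (P k s) (mem_iSup_of_decomposition (GrSyz.stdGr k (Fin s)))
      (gIndep_of_decomposition (GrSyz.stdGr k (Fin s))) with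
    one_mem := SetLike.one_mem_graded (GrSyz.stdGr k (Fin s))
    mul_mem := fun _ _ _ _ ha hb => SetLike.mul_mem_graded (A := GrSyz.stdGr k (Fin s)) ha hb }

theorem mem_P_natCast {n : ℕ} {p : MvPolynomial (Fin s) k} :
    p ∈ P k s (n : ℤ) ↔ p ∈ homogeneousSubmodule (Fin s) k n := by
  rw [← stdGr_natCast]; rfl

theorem P_neg : ∀ n : ℤ, n < 0 → P k s n = ⊥ := fun n hn =>
  (AddSubgroup.eq_bot_iff_forall _).2 fun p hp => stdGr_nonneg k _ n hn p hp

theorem eq_C_of_mem_zero (p : MvPolynomial (Fin s) k) (hp : p ∈ P k s 0) : p = C (p.coeff 0) :=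
  eq_C_of_stdGr_zero k _ p hp

theorem C_mem_zero (c : k) : (C c : MvPolynomial (Fin s) k) ∈ P k s 0 :=
  isWeightedHomogeneous_C (fun _ : Fin s => (1 : ℤ)) c

/-- The degree-zero part is the field. -/
noncomputable def deg0Equiv : k ≃+* GrLC.deg0 (P k s) :=
  RingEquiv.ofBijective (((C : k →+* MvPolynomial (Fin s) k)).codRestrict (GrLC.deg0 (P k s)) (C_mem_zero k s))
    ⟨fun _ _ h => C_injective _ k (congrArg Subtype.val h),
      fun z => ⟨z.1.coeff 0, Subtype.ext (eq_C_of_mem_zero k s z.1 z.2).symm⟩⟩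

theorem isField_deg0 : IsField (GrLC.deg0 (P k s)) :=
  (deg0Equiv k s).toMulEquiv.symm.isField (Field.toIsField k)

theorem X_mem_one (i : Fin s) : (MvPolynomial.X i : MvPolynomial (Fin s) k) ∈ P k s 1 :=
  isWeightedHomogeneous_X k (fun _ : Fin s => (1 : ℤ)) i

theorem mem_span_X {n : ℤ} (hn : 0 < n) {p : MvPolynomial (Fin s) k} (hp : p ∈ P k s n) :
    p ∈ Ideal.span (Set.range (MvPolynomial.X : Fin s → MvPolynomial (Fin s) k)) := by
  rw [← Set.image_univ, MvPolynomial.mem_ideal_span_X_image]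
  intro d hd
  by_contra h
  push Not at h
  have hw := (GrSyz.mem_stdGr_iff k (Fin s) n p).1 hp (MvPolynomial.mem_support_iff.1 hd)
  rw [show d = 0 from Finsupp.ext fun j => h j trivial, map_zero] at hw
  omega

theorem hstd : Ideal.span (⋃ n ∈ Set.Ioi (0 : ℤ), (P k s n : Set (MvPolynomial (Fin s) k))) =
    Ideal.span ((P k s 1 : AddSubgroup (MvPolynomial (Fin s) k)) : Set (MvPolynomial (Fin s) k)) := by
  refine le_antisymm (Ideal.span_le.2 ?_) (Ideal.span_mono (Set.subset_biUnion_of_mem (u := fun n => (P k s n : Set (MvPolynomial (Fin s) k))) (show (1 : ℤ) ∈ Set.Ioi (0 : ℤ) from Set.mem_Ioi.2 (by norm_num))))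
  intro p hp
  obtain ⟨n, hn, hp⟩ := Set.mem_iUnion₂.1 hp
  exact Ideal.span_mono (by rintro _ ⟨i, rfl⟩; exact X_mem_one k s i) (mem_span_X k s hn hp)

theorem ringKrullDim_eq : ringKrullDim (MvPolynomial (Fin s) k) = s := by
  rw [MvPolynomial.ringKrullDim_of_isNoetherianRing, ringKrullDim_eq_zero_of_field, zero_add]; simp

theorem finrank_comp {r : ℕ} (ρ : ℕ) :
    Module.finrank (GrLC.deg0 (P k (r + 1))) (GrLC.comp (P k (r + 1)) (P k (r + 1)) (ρ : ℤ)) = Nat.choose (r + ρ) r := by
  let j : GrSyz.stdGr k (Fin (r + 1)) (ρ : ℤ) ≃+ GrLC.comp (P k (r + 1)) (P k (r + 1)) (ρ : ℤ) :=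
    { toFun := fun x => ⟨x.1, x.2⟩
      invFun := fun x => ⟨x.1, x.2⟩
      left_inv := fun _ => rfl
      right_inv := fun _ => rfl
      map_add' := fun _ _ => rfl }
  have h := rank_eq_of_equiv_equiv (R := k) (deg0Equiv k (r + 1)) j (deg0Equiv k (r + 1)).bijective
    (fun c x => Subtype.ext (MvPolynomial.smul_eq_C_mul x.1 c))
  rw [Module.finrank, ← h]
  show Module.finrank k _ = _
  rw [(stdGr_piece r (ρ : ℤ)).2, if_pos (by omega), Int.toNat_natCast]

theorem endDeg_eq (I : GrLC.StarInjRes (P k s) (P k s)) :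
    GrLC.endDeg (I.Hgr (GrSyz.irrel (P k s)) s) = (((-(s : ℤ) : ℤ) : WithTop ℤ) : WithBot (WithTop ℤ)) := by
  classical
  let X := gmodPieces (P k s) (P k s)
  haveI : Module.Finite (MvPolynomial (Fin s) k) X.carrier :=
    inferInstanceAs (Module.Finite (MvPolynomial (Fin s) k) (MvPolynomial (Fin s) k))
  let l : List (MvPolynomial (Fin s) k × ℤ) := List.ofFn fun i : Fin s => (MvPolynomial.X i, 1)
  have hfst : l.map Prod.fst = List.ofFn (MvPolynomial.X : Fin s → MvPolynomial (Fin s) k) := by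
    simp only [l, List.map_ofFn]; rfl
  have hsnd : (l.map Prod.snd).sum = (s : ℤ) := by
    simp [l, List.map_ofFn, Function.comp_def]
  have hle : (GrSyz.irrel (P k s)).toIdeal ≤ Ideal.ofList (l.map Prod.fst) := by
    refine Ideal.span_le.2 fun p ⟨n, hn, hp⟩ => ?_
    rw [hfst]
    exact Ideal.span_mono (by rintro _ ⟨i, rfl⟩; exact List.mem_ofFn.2 ⟨i, rfl⟩) (mem_span_X k s hn hp)
  have htop : ∀ p : MvPolynomial (Fin s) k, p ∈ Ideal.ofList (l.map Prod.fst) →
      p ∈ Ideal.ofList (l.map Prod.fst) • (⊤ : Submodule (MvPolynomial (Fin s) k) (MvPolynomial (Fin s) k)) :=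
    fun p hp => by rwa [smul_eq_mul, Ideal.mul_top]
  obtain ⟨-, h2, h3⟩ := hVan_regular_top (a := GrSyz.irrel (P k s)) l X
    (fun p hp => by
      obtain ⟨i, rfl⟩ := List.mem_ofFn.1 hp
      exact ⟨X_mem_one k s i, zero_le_one, mem_irrel_of_pos _ one_pos (X_mem_one k s i)⟩)
    (hfst.symm ▸ isWeaklyRegular_X k s)
    (fun m => ⟨1, fun r hr => htop _ (Ideal.mul_mem_right _ _ (hle (by rwa [pow_one] at hr)))⟩) 0
    (fun g hg m hm => htop _ (hle (mem_irrel_of_pos _ hg hm)))
    ⟨(show X.carrier from (1 : MvPolynomial (Fin s) k)), SetLike.one_mem_graded (P k s), fun h => by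
      have h' : (1 : MvPolynomial (Fin s) k) ∈ Ideal.span (Set.range (MvPolynomial.X : Fin s → MvPolynomial (Fin s) k)) := by
        have h0 : (1 : MvPolynomial (Fin s) k) ∈ Ideal.ofList (l.map Prod.fst) := by
          have : (1 : MvPolynomial (Fin s) k) ∈ Ideal.ofList (l.map Prod.fst) •
              (⊤ : Submodule (MvPolynomial (Fin s) k) (MvPolynomial (Fin s) k)) := h
          rwa [smul_eq_mul, Ideal.mul_top] at this
        rw [hfst] at h0
        exact Ideal.span_mono (by intro r hr; obtain ⟨i, rfl⟩ := List.mem_ofFn.1 hr; exact ⟨i, rfl⟩) h0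
      rw [← Set.image_univ, MvPolynomial.mem_ideal_span_X_image] at h'
      obtain ⟨i, -, hi⟩ := h' 0 (by simp)
      exact hi rfl⟩
  rw [show l.length = s by simp [l]] at h2 h3
  rw [hsnd, zero_sub] at h2 h3
  refine le_antisymm ?_ ?_
  · simp only [endDeg_le_iff, Hgr_eq_bot_iff, ← hVan_of_pieces_res I]
    exact fun g hg => h2 g hg
  · exact le_iSup₂_of_le (-(s : ℤ))
      (fun hb => h3 ((hVan_of_pieces_res I).2 ((Hgr_eq_bot_iff I _ s _).1 hb))) le_rfl

section Vero

variable (d : ℕ) {R' : Type u} [CommRing R'] (φ : R' →+* MvPolynomial (Fin s) k)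

/-- The induced grading on the Veronese subring. -/
noncomputable def P' (j : ℤ) : AddSubgroup R' := (P k s (j * d)).comap φ.toAddMonoidHom

variable (hd : 1 ≤ d) (hφ : Function.Injective φ)
  (hrange : ∀ p : MvPolynomial (Fin s) k, p ∈ φ.range ↔ ∀ j : ℕ, ¬ d ∣ j → MvPolynomial.homogeneousComponent j p = 0)

include hrange in
theorem mem_range_of_mem {j : ℤ} {p : MvPolynomial (Fin s) k} (hp : p ∈ P k s (j * d)) : p ∈ φ.range := by
  rcases lt_or_ge (j * d) 0 with hj | hj
  · rw [(AddSubgroup.eq_bot_iff_forall _).1 (P_neg k s _ hj) p hp]; exact zero_mem _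
  · obtain ⟨n, hn⟩ := Int.eq_ofNat_of_zero_le hj
    rw [hn] at hp
    refine (hrange p).2 fun i hi => ?_
    rw [MvPolynomial.homogeneousComponent_of_mem ((mem_P_natCast k s).1 hp), if_neg]
    rintro rfl
    exact hi (Int.natCast_dvd_natCast.1 ⟨j, by rw [← hn, mul_comm]⟩)

include hd hφ hrange

theorem map_P' (j : ℤ) : (P' k s d φ j).map (φ : R' →+ MvPolynomial (Fin s) k) = P k s (j * d) := by
  refine le_antisymm (AddSubgroup.map_comap_le _ _) fun p hp => ?_
  obtain ⟨x, rfl⟩ := mem_range_of_mem k s d φ hrange hp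
  exact ⟨x, hp, rfl⟩

theorem span_P' (x : R') : x ∈ ⨆ j, P' k s d φ j := by
  classical
  have hcomp : ∀ i : ℕ, ∃ y : R', φ y = homogeneousComponent i (φ x) ∧ y ∈ ⨆ j, P' k s d φ j := by
    intro i
    by_cases hi : d ∣ i
    · obtain ⟨c, rfl⟩ := hi
      have hm : homogeneousComponent (d * c) (φ x) ∈ P k s ((c : ℤ) * d) := by
        have h := (mem_P_natCast k s (n := d * c)).2 (homogeneousComponent_mem (d * c) (φ x))
        rwa [show ((d * c : ℕ) : ℤ) = (c : ℤ) * d by push_cast; ring] at h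
      obtain ⟨y, hy⟩ := mem_range_of_mem k s d φ hrange hm
      exact ⟨y, hy, AddSubgroup.mem_iSup_of_mem (c : ℤ) (show φ y ∈ P k s ((c : ℤ) * d) from hy ▸ hm)⟩
    · exact ⟨0, by rw [map_zero, (hrange (φ x)).1 ⟨x, rfl⟩ i hi], zero_mem _⟩
  choose y hy hmem using hcomp
  have hx : x = ∑ i ∈ Finset.range ((φ x).totalDegree + 1), y i := hφ (by
    rw [map_sum, Finset.sum_congr rfl fun i _ => hy i]
    exact (MvPolynomial.sum_homogeneousComponent _).symm)
  rw [hx]
  exact AddSubgroup.sum_mem _ fun i _ => hmem i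

theorem indep_P' : GIndep (P' k s d φ) := by
  classical
  intro t c hc hsum j hj
  refine hφ ?_
  rw [map_zero]
  have hinj : Function.Injective fun i : ℤ => i * (d : ℤ) := fun a b h =>
    Int.eq_of_mul_eq_mul_right (by omega) h
  have h := gIndep_of_decomposition (P k s) (t.map ⟨_, hinj⟩)
    (fun g => if h : ∃ i ∈ t, i * (d : ℤ) = g then φ (c h.choose) else 0)
    (fun g hg => by
      obtain ⟨i, hi, rfl⟩ := Finset.mem_map.1 hg
      have he : ∃ i' ∈ t, i' * (d : ℤ) = i * d := ⟨i, hi, rfl⟩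
      show (if h : ∃ i' ∈ t, i' * (d : ℤ) = i * d then φ (c h.choose) else 0) ∈ P k s (i * d)
      rw [dif_pos he, hinj he.choose_spec.2]
      exact hc i hi)
    (by
      rw [Finset.sum_map]
      refine Eq.trans (Finset.sum_congr rfl fun i hi => ?_) ((map_sum φ c t).symm.trans (by rw [hsum, map_zero]))
      have he : ∃ i' ∈ t, i' * (d : ℤ) = i * d := ⟨i, hi, rfl⟩
      show (if h : ∃ i' ∈ t, i' * (d : ℤ) = i * d then φ (c h.choose) else 0) = φ (c i)
      rw [dif_pos he, hinj he.choose_spec.2])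
    (j * d) (Finset.mem_map.2 ⟨j, hj, rfl⟩)
  have he : ∃ i' ∈ t, i' * (d : ℤ) = j * d := ⟨j, hj, rfl⟩
  change (if h : ∃ i' ∈ t, i' * (d : ℤ) = j * d then φ (c h.choose) else 0) = 0 at h
  rwa [dif_pos he, hinj he.choose_spec.2] at h

theorem bassNum_vero (hs : 1 ≤ s) (m' : Ideal R') [m'.IsMaximal]
    (hm' : m' = Ideal.comap φ (RingHom.ker (MvPolynomial.constantCoeff : MvPolynomial (Fin s) k →+* k)))
    (n : ℕ) (hsn : s ≤ n) (hdn : d ∣ n) (hmin : ∀ n' : ℕ, s ≤ n' → d ∣ n' → n ≤ n') :
    GrLC.bassNum m' R' s = (Nat.choose (n - 1) (s - 1) : ℕ∞) := by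
  classical
  haveI : LocCoh.IsGorensteinRing (MvPolynomial (Fin s) k) := LC.gorensteinRing_of_isRegularRing _
  letI : GradedRing (P' k s d φ) :=
    { decompositionOf (P' k s d φ) (span_P' k s d φ hd hφ hrange) (indep_P' k s d φ hd hφ hrange) with
      one_mem := show φ 1 ∈ P k s ((0 : ℤ) * d) by rw [map_one, zero_mul]; exact SetLike.one_mem_graded (P k s)
      mul_mem := fun i j a b ha hb => show φ (a * b) ∈ P k s ((i + j) * d) by
        rw [map_mul, add_mul]; exact SetLike.mul_mem_graded (A := P k s) ha hb }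
  let M' : HomogeneousIdeal (P' k s d φ) := GrSyz.irrel (P' k s d φ)
  have hM' : M'.toIdeal = m' := by
    rw [hm']
    refine le_antisymm (Ideal.span_le.2 ?_) fun x hx => ?_
    · rintro x ⟨j, hj, hx⟩
      have hx' : φ x ∈ P k s (j * d) := hx
      show MvPolynomial.constantCoeff (φ x) = 0
      by_contra h0
      have hw := (GrSyz.mem_stdGr_iff k (Fin s) _ (φ x)).1 hx' (d := 0) h0
      rw [map_zero] at hw
      have : 0 < j * (d : ℤ) := mul_pos hj (by omega)
      omega
    · have hc0 : MvPolynomial.constantCoeff (φ x) = 0 := hx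
      letI := decompositionOf (P' k s d φ) (span_P' k s d φ hd hφ hrange) (indep_P' k s d φ hd hφ hrange)
      rw [← sum_support_decompose (P' k s d φ) x]
      refine Ideal.sum_mem _ fun j _ => ?_
      rcases lt_trichotomy j 0 with hj | rfl | hj
      · have h0 : φ (decompose (P' k s d φ) x j : R') ∈ P k s (j * d) := SetLike.coe_mem (decompose (P' k s d φ) x j)
        have := (AddSubgroup.eq_bot_iff_forall _).1 (P_neg k s _ (mul_neg_of_neg_of_pos hj (by omega))) _ h0
        rw [show (decompose (P' k s d φ) x j : R') = 0 from hφ (this.trans (map_zero φ).symm)]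
        exact zero_mem _
      · rw [show (decompose (P' k s d φ) x 0 : R') = 0 from hφ ?_]
        · exact zero_mem _
        rw [map_zero]
        have h0 : φ (decompose (P' k s d φ) x 0 : R') ∈ P k s 0 := by
          have h1 : φ (decompose (P' k s d φ) x 0 : R') ∈ P k s ((0 : ℤ) * d) :=
            SetLike.coe_mem (decompose (P' k s d φ) x 0)
          have e : (0 : ℤ) * d = 0 := zero_mul _
          rwa [e] at h1
        rw [eq_C_of_mem_zero k s _ h0]
        have hcc : MvPolynomial.constantCoeff (φ (decompose (P' k s d φ) x 0 : R')) = MvPolynomial.constantCoeff (φ x) := by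
          conv_rhs => rw [← sum_support_decompose (P' k s d φ) x]
          rw [map_sum, map_sum]
          refine (Finset.sum_eq_single (f := fun i => MvPolynomial.constantCoeff (φ (decompose (P' k s d φ) x i : R'))) 0
            (fun i _ hi => ?_) (fun h => by rw [DFinsupp.notMem_support_iff.1 h]; simp)).symm
          by_contra h0
          have hi' : φ (decompose (P' k s d φ) x i : R') ∈ P k s (i * d) := SetLike.coe_mem (decompose (P' k s d φ) x i)
          have hw := (GrSyz.mem_stdGr_iff k (Fin s) _ _).1 hi' (d := 0) h0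
          rw [map_zero] at hw
          rcases mul_eq_zero.1 hw.symm with h | h <;> omega
        rw [show (φ (decompose (P' k s d φ) x 0 : R')).coeff 0 = 0 from hcc.trans hc0, map_zero]
      · exact mem_irrel_of_pos _ hj (SetLike.coe_mem _)
  haveI : M'.toIdeal.IsMaximal := hM'.symm ▸ (inferInstance : m'.IsMaximal)
  have hns : n - s < d := by
    by_contra h
    have := hmin (n - d) (by omega) (Nat.dvd_sub hdn dvd_rfl)
    omega
  have key := VeroGor.bassNum_eq (P_neg k s) (isField_deg0 k s) (isStarLocal_irrel (P_neg k s) (isField_deg0 k s))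
    irrel_toIdeal_eq (ringKrullDim_eq k s) (starRes (𝒜 := P k s) (P k s)) (-(s : ℤ)) (endDeg_eq k s _)
    (show 0 < d by omega) φ hφ (map_P' k s d φ hd hφ hrange) (hstd k s) M' irrel_toIdeal_eq
    ((n - s : ℕ) : ℤ) (by omega) (by omega)
    (by
      obtain ⟨c, hc⟩ := hdn
      exact ⟨-(c : ℤ), by rw [Nat.cast_sub hsn, hc]; push_cast; ring⟩)
  obtain ⟨r, rfl⟩ : ∃ r, s = r + 1 := ⟨s - 1, by omega⟩
  rw [finrank_comp] at key
  subst hM'
  rw [key, show n - 1 = r + (n - (r + 1)) by omega, Nat.add_sub_cancel]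

end Vero

end Groth.Agent.VeroType6
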